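import Mathlib.RingTheory.Ideal.MinimalPrime.Localization
import Mathlib.RingTheory.Ideal.Height
import Mathlib.RingTheory.Ideal.MinimalPrime.Noetherian
import Mathlib.RingTheory.Localization.Away.Basic
import Mathlib.RingTheory.KrullDimension.Field
import Mathlib.RingTheory.LocalRing.MaximalIdeal.Basic
import Mathlib.RingTheory.LocalRing.ResidueField.Ideal
import Mathlib.RingTheory.LocalProperties.Reduced
import Mathlib.Algebra.Group.Pi.Units

/-!
# One-dimensional Noetherian local rings

Primes are minimal or maximal; for `f` outside all minimal primes `A_f ≅ ∏ A_p` (minimal `p`).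
-/

open IsLocalRing

namespace Groth.Agent.OneDim

variable {A : Type*} [CommRing A]

/-- An element of a minimal prime is nilpotent in the localisation there. -/
lemma isNilpotent_algebraMap_atPrime {p : Ideal A} [p.IsPrime] (hp : p ∈ minimalPrimes A) {a : A}
    (ha : a ∈ p) : IsNilpotent (algebraMap A (Localization.AtPrime p) a) := by
  rw [nilpotent_iff_mem_prime]
  intro J hJ
  obtain ⟨hq, hd⟩ := (IsLocalization.isPrime_iff_isPrime_disjoint p.primeCompl _ J).mp hJ
  have hle : J.under A ≤ p := fun x hx => by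
    by_contra h
    exact Set.disjoint_left.mp hd h hx
  exact hp.2 ⟨hq, bot_le⟩ hle ha

/-- The minimal primes as a type of points. -/
abbrev MinPts (A : Type*) [CommRing A] := {p : PrimeSpectrum A // p.asIdeal ∈ minimalPrimes A}

lemma mem_minimalPrimes_or_eq_maximalIdeal [IsLocalRing A] (hdim : ringKrullDim A ≤ 1)
    (q : Ideal A) [hq : q.IsPrime] : q ∈ minimalPrimes A ∨ q = maximalIdeal A := by
  rcases (le_maximalIdeal hq.ne_top).eq_or_lt with h | h
  · exact Or.inr h
  · left
    rw [← Ideal.height_eq_zero_iff]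
    have h1 := Ideal.height_add_one_le_of_lt_of_isPrime h
    have h2 : ((maximalIdeal A).height : WithBot ℕ∞) ≤ 1 :=
      (Ideal.height_le_ringKrullDim_of_isPrime).trans hdim
    have h3 : q.height + 1 ≤ 0 + 1 := by
      rw [zero_add]
      exact h1.trans (by exact_mod_cast h2)
    exact nonpos_iff_eq_zero.mp ((ENat.add_le_add_iff_right ENat.one_ne_top).mp h3)

lemma maximalIdeal_notMem_minimalPrimes [IsLocalRing A] (hdim : ringKrullDim A = 1) :
    maximalIdeal A ∉ minimalPrimes A := fun h => by
  rw [← Ideal.height_eq_zero_iff] at h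
  rw [← IsLocalRing.maximalIdeal_height_eq_ringKrullDim, h] at hdim
  exact zero_ne_one (WithBot.coe_inj.mp hdim)

lemma exists_notMem_minimalPrimes [IsLocalRing A] [IsNoetherianRing A] (hdim : ringKrullDim A = 1) :
    ∃ f ∈ maximalIdeal A, ∀ p ∈ minimalPrimes A, f ∉ p := by
  have hfin := minimalPrimes.finite_of_isNoetherianRing A
  have hnot : ¬ ((maximalIdeal A : Set A) ⊆ ⋃ p ∈ (hfin.toFinset : Set (Ideal A)), (p : Set A)) := by
    intro h
    rw [Ideal.subset_union_prime (s := hfin.toFinset) (f := fun p : Ideal A => p) ⊥ ⊥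
      (fun p hp _ _ => (hfin.mem_toFinset.mp hp).1.1)] at h
    obtain ⟨p, hp, hle⟩ := h
    have hp' := hfin.mem_toFinset.mp hp
    exact maximalIdeal_notMem_minimalPrimes hdim
      ((le_antisymm hle (le_maximalIdeal hp'.1.1.ne_top)) ▸ hp')
  obtain ⟨f, hf, hf'⟩ := Set.not_subset.mp hnot
  exact ⟨f, hf, fun p hp h => hf' (Set.mem_biUnion (hfin.mem_toFinset.mpr hp) h)⟩

lemma radical_span_eq_of_notMem [IsLocalRing A] (hdim : ringKrullDim A ≤ 1) {f : A}
    (hf : f ∈ maximalIdeal A) (h : ∀ p ∈ minimalPrimes A, f ∉ p) :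
    maximalIdeal A = (Ideal.span {f}).radical := by
  rw [Ideal.radical_eq_sInf]
  refine le_antisymm (le_sInf fun q ⟨hfq, hq⟩ => ?_)
    (sInf_le ⟨(Ideal.span_singleton_le_iff_mem _).mpr hf, inferInstance⟩)
  rcases mem_minimalPrimes_or_eq_maximalIdeal hdim q with h' | h'
  · exact absurd ((Ideal.span_singleton_le_iff_mem _).mp hfq) (h q h')
  · exact h'.ge

lemma notMem_of_radical_span_eq [IsLocalRing A] (hdim : ringKrullDim A = 1) {f : A}
    (h : maximalIdeal A = (Ideal.span {f}).radical) : ∀ p ∈ minimalPrimes A, f ∉ p := by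
  intro p hp hfp
  have hle : maximalIdeal A ≤ p :=
    h ▸ (Ideal.radical_mono ((Ideal.span_singleton_le_iff_mem _).mpr hfp)).trans_eq hp.1.1.radical
  exact maximalIdeal_notMem_minimalPrimes hdim
    ((le_antisymm hle (le_maximalIdeal hp.1.1.ne_top)) ▸ hp)

/-- With `f` outside every minimal prime, every element outside every minimal prime divides a power of `f`. -/
lemma exists_pow_mem_span [IsLocalRing A] (hdim : ringKrullDim A ≤ 1) {f g : A}
    (hf : f ∈ maximalIdeal A) (hg : ∀ p ∈ minimalPrimes A, g ∉ p) :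
    ∃ n, f ^ n ∈ Ideal.span {g} := by
  by_cases hgu : IsUnit g
  · exact ⟨0, by simp [Ideal.span_singleton_eq_top.mpr hgu]⟩
  · have := radical_span_eq_of_notMem hdim ((mem_maximalIdeal g).mpr hgu) hg
    rw [this] at hf
    exact hf

lemma isUnit_algebraMap_away [IsLocalRing A] (hdim : ringKrullDim A ≤ 1) {f g : A}
    (hf : f ∈ maximalIdeal A) (hg : ∀ p ∈ minimalPrimes A, g ∉ p) :
    IsUnit (algebraMap A (Localization.Away f) g) := by
  obtain ⟨n, hn⟩ := exists_pow_mem_span hdim hf hg
  obtain ⟨c, hc⟩ := Ideal.mem_span_singleton'.mp hn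
  have : IsUnit (algebraMap A (Localization.Away f) (c * g)) := by
    rw [hc, map_pow]
    exact (IsLocalization.map_units (Localization.Away f) ⟨f, Submonoid.mem_powers f⟩).pow n
  rw [map_mul] at this
  exact isUnit_of_mul_isUnit_right this

/-- The map `A_f → ∏ A_p` over the minimal primes. -/
noncomputable def awayToPi {f : A} (hf : ∀ p ∈ minimalPrimes A, f ∉ p) :
    Localization.Away f →ₐ[A] ∀ p : MinPts A, Localization.AtPrime p.1.asIdeal :=
  IsLocalization.liftAlgHom (M := Submonoid.powers f)
    (f := Algebra.ofId A (∀ p : MinPts A, Localization.AtPrime p.1.asIdeal)) fun ⟨y, n, hn⟩ => by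
    refine Pi.isUnit_iff.mpr fun (p : MinPts A) => ?_
    subst hn
    exact IsLocalization.map_units (M := p.1.asIdeal.primeCompl) _
      ⟨f ^ n, fun h => hf _ p.2 (p.1.2.mem_of_pow_mem n h)⟩

lemma exists_separator [IsNoetherianRing A] (p : MinPts A) :
    ∃ t : A, t ∉ p.1.asIdeal ∧ ∀ q : MinPts A, q ≠ p →
      algebraMap A (Localization.AtPrime q.1.asIdeal) t = 0 := by
  classical
  haveI : Finite (MinPts A) := by
    haveI := (minimalPrimes.finite_of_isNoetherianRing A).to_subtype
    exact Finite.of_injective (fun q : MinPts A => (⟨q.1.asIdeal, q.2⟩ : minimalPrimes A))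
      (fun a b h => Subtype.ext (PrimeSpectrum.ext (congrArg Subtype.val h)))
  haveI := Fintype.ofFinite (MinPts A)
  have hne : ¬ (Finset.univ.filter (· ≠ p)).inf (fun q : MinPts A => q.1.asIdeal) ≤ p.1.asIdeal := by
    intro h
    obtain ⟨q, hq, hle⟩ := (p.1.2.inf_le').mp h
    refine (Finset.mem_filter.mp hq).2 (Subtype.ext (PrimeSpectrum.ext (le_antisymm hle ?_)))
    exact p.2.2 ⟨q.1.2, bot_le⟩ hle
  obtain ⟨t, ht, htp⟩ := SetLike.not_le_iff_exists.mp hne
  have hnil : ∀ q : MinPts A, q ≠ p → ∃ n, algebraMap A (Localization.AtPrime q.1.asIdeal) t ^ n = 0 :=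
    fun q hq => isNilpotent_algebraMap_atPrime q.2
      ((Finset.inf_le (f := fun q : MinPts A => q.1.asIdeal)
        (Finset.mem_filter.mpr ⟨Finset.mem_univ q, hq⟩)) ht)
  choose n hn using hnil
  let N := Finset.univ.sup fun q : MinPts A => if h : q ≠ p then n q h else 0
  refine ⟨t ^ N, fun h => htp (p.1.2.mem_of_pow_mem _ h), fun q hq => ?_⟩
  rw [map_pow]
  refine pow_eq_zero_of_le ?_ (hn q hq)
  have := Finset.le_sup (f := fun q : MinPts A => if h : q ≠ p then n q h else 0) (Finset.mem_univ q)
  rwa [dif_pos hq] at this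

lemma awayToPi_bijective [IsLocalRing A] [IsNoetherianRing A] (hdim : ringKrullDim A ≤ 1) {f : A}
    (hfm : f ∈ maximalIdeal A) (hf : ∀ p ∈ minimalPrimes A, f ∉ p) :
    Function.Bijective (awayToPi hf) := by
  classical
  constructor
  · rw [injective_iff_map_eq_zero]
    intro z hz
    obtain ⟨a, s, rfl⟩ := IsLocalization.exists_mk'_eq (Submonoid.powers f) z
    have h0 : awayToPi hf (algebraMap A _ a) = 0 := by
      rw [← IsLocalization.mk'_spec (Localization.Away f) a s, map_mul, hz, zero_mul]
    rw [AlgHom.commutes] at h0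
    have hann : ¬ ((Submodule.span A {a}).annihilator : Set A) ⊆
        ⋃ p ∈ ((minimalPrimes.finite_of_isNoetherianRing A).toFinset : Set (Ideal A)), (p : Set A) := by
      rw [Ideal.subset_union_prime (f := fun p : Ideal A => p) ⊥ ⊥
        (fun p hp _ _ => ((Set.Finite.mem_toFinset _).mp hp).1.1)]
      rintro ⟨p, hp, hle⟩
      have hp' := (Set.Finite.mem_toFinset _).mp hp
      let P : MinPts A := ⟨⟨p, hp'.1.1⟩, hp'⟩
      haveI : P.1.asIdeal.IsPrime := P.1.isPrime
      have h1 : algebraMap A (Localization.AtPrime P.1.asIdeal) a = 0 := congrFun h0 P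
      obtain ⟨⟨g, hg⟩, hga⟩ := (IsLocalization.map_eq_zero_iff P.1.asIdeal.primeCompl _ _).mp h1
      exact hg (hle (Submodule.mem_annihilator_span_singleton _ _ |>.mpr hga))
    obtain ⟨g, hga, hg⟩ := Set.not_subset.mp hann
    have hgu := isUnit_algebraMap_away hdim hfm
      (g := g) (fun p hp h => hg (Set.mem_biUnion ((Set.Finite.mem_toFinset _).mpr hp) h))
    rw [IsLocalization.mk'_eq_mul_mk'_one a s]
    have : algebraMap A (Localization.Away f) a = 0 := by
      apply hgu.mul_right_eq_zero.mp
      rw [← map_mul, show g * a = g • a from rfl,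
        (Submodule.mem_annihilator_span_singleton _ _).mp hga, map_zero]
    rw [this, zero_mul]
  · intro x
    haveI : Finite (MinPts A) := by
      haveI := (minimalPrimes.finite_of_isNoetherianRing A).to_subtype
      exact Finite.of_injective (fun q : MinPts A => (⟨q.1.asIdeal, q.2⟩ : minimalPrimes A))
        (fun a b h => Subtype.ext (PrimeSpectrum.ext (congrArg Subtype.val h)))
    haveI := Fintype.ofFinite (MinPts A)
    choose t ht ht0 using exists_separator (A := A)
    choose a s hx using fun p : MinPts A => IsLocalization.exists_mk'_eq p.1.asIdeal.primeCompl (x p)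
    have hsum : ∀ (c : MinPts A → A) (q : MinPts A),
        algebraMap A (Localization.AtPrime q.1.asIdeal) (∑ p, t p * c p) =
          algebraMap A _ (t q * c q) := by
      intro c q
      rw [map_sum, Finset.sum_eq_single q]
      · intro p _ hpq
        rw [map_mul, ht0 p q (Ne.symm hpq), zero_mul]
      · simp
    set den := ∑ p, t p * (s p : A) with hden
    have hden' : ∀ p ∈ minimalPrimes A, den ∉ p := by
      intro p hp hmem
      let P : MinPts A := ⟨⟨p, hp.1.1⟩, hp⟩
      haveI : P.1.asIdeal.IsPrime := P.1.isPrime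
      have hu : IsUnit (algebraMap A (Localization.AtPrime P.1.asIdeal) den) := by
        rw [hden, hsum, map_mul]
        exact (IsLocalization.map_units (M := P.1.asIdeal.primeCompl) _ ⟨t P, ht P⟩).mul
          (IsLocalization.map_units (M := P.1.asIdeal.primeCompl) _ (s P))
      exact ((IsLocalization.AtPrime.isUnit_to_map_iff (S := Localization.AtPrime P.1.asIdeal)
        P.1.asIdeal den).mp hu) hmem
    obtain ⟨u, hu⟩ := isUnit_algebraMap_away hdim hfm hden'
    refine ⟨algebraMap A _ (∑ p, t p * a p) * ↑u⁻¹, funext fun q => ?_⟩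
    have h1 : awayToPi hf (algebraMap A _ (∑ p, t p * a p) * ↑u⁻¹) q *
        algebraMap A (Localization.AtPrime q.1.asIdeal) den =
        algebraMap A _ (∑ p, t p * a p) := by
      have h2 : awayToPi hf (algebraMap A _ (∑ p, t p * a p) * ↑u⁻¹) * awayToPi hf (↑u) =
          awayToPi hf (algebraMap A _ (∑ p, t p * a p)) := by
        rw [← map_mul, Units.inv_mul_cancel_right]
      rw [hu, AlgHom.commutes, AlgHom.commutes] at h2
      exact congrFun h2 q
    rw [hden, hsum, hsum, map_mul, map_mul, mul_left_comm] at h1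
    have htu := IsLocalization.map_units (M := q.1.asIdeal.primeCompl)
      (Localization.AtPrime q.1.asIdeal) ⟨t q, ht q⟩
    rw [map_mul] at h1
    have h3 := htu.mul_left_cancel h1
    rw [← hx q, map_mul]
    exact (IsLocalization.eq_mk'_iff_mul_eq).mpr h3

/-- The localisation of a reduced ring at a minimal prime is its residue field. -/
noncomputable def atPrimeEquivResidueField [IsReduced A] {p : Ideal A} [p.IsPrime]
    (hp : p ∈ minimalPrimes A) : Localization.AtPrime p ≃ₐ[A] p.ResidueField := by
  refine AlgEquiv.ofBijective (IsScalarTower.toAlgHom A (Localization.AtPrime p) p.ResidueField)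
    ⟨?_, Ideal.Quotient.mk_surjective⟩
  rw [injective_iff_map_eq_zero]
  intro z hz
  obtain ⟨a, s, rfl⟩ := IsLocalization.exists_mk'_eq p.primeCompl z
  have hz' : IsLocalization.mk' (Localization.AtPrime p) a s ∈ maximalIdeal _ :=
    Ideal.Quotient.eq_zero_iff_mem.mp hz
  have := isNilpotent_algebraMap_atPrime hp
    ((IsLocalization.AtPrime.mk'_mem_maximal_iff (Localization.AtPrime p) p a s).mp hz')
  rw [IsLocalization.mk'_eq_mul_mk'_one, this.eq_zero, zero_mul]

end Groth.Agent.OneDim
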