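import Mathlib.RingTheory.OrderOfVanishing.Basic
import Mathlib.RingTheory.Localization.FractionRing
import Mathlib.RingTheory.HopkinsLevitzki
import Mathlib.RingTheory.Artinian.Module
import Mathlib.RingTheory.DedekindDomain.Basic
import Mathlib.RingTheory.Finiteness.Ideal

/-!
# The Krull–Akizuki theorem

For a Noetherian domain `A` of dimension at most one with fraction field `K`, every intermediate ring
`A ⊆ R ⊆ K` is Noetherian of dimension at most one, with `R / xR` of finite length over `A`.
-/

set_option linter.style.haveILetI false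

namespace Groth.Agent.OneDim

section Module

variable {A : Type*} [CommRing A] {M : Type*} [AddCommGroup M] [Module A M]

lemma length_quotient_ne_top_of_smul_mem [IsNoetherianRing A] [Ring.KrullDimLE 1 A] [Module.Finite A M]
    {N : Submodule A M} {d : A} (hd : d ∈ nonZeroDivisors A) (h : ∀ m, d • m ∈ N) :
    Module.length A (M ⧸ N) ≠ ⊤ := by
  obtain ⟨n, f, hf⟩ := Module.Finite.exists_fin' A M
  let φ : (Fin n → A) →ₗ[A] M ⧸ N := N.mkQ.comp f
  have hker : ∀ i, Ideal.span {d} ≤
      LinearMap.ker (LinearMap.toSpanSingleton A (M ⧸ N) (φ (Pi.single i 1))) := by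
    intro i
    rw [Ideal.span_singleton_le_iff_mem, LinearMap.mem_ker, LinearMap.toSpanSingleton_apply]
    change d • N.mkQ _ = 0
    rw [← map_smul]
    exact (Submodule.Quotient.mk_eq_zero N).mpr (h _)
  let ψ : (Fin n → A ⧸ Ideal.span {d}) →ₗ[A] M ⧸ N :=
    ∑ i, ((Ideal.span {d}).liftQ _ (hker i)).comp (LinearMap.proj i)
  have hψ : Function.Surjective ψ := by
    intro z
    obtain ⟨m, rfl⟩ := N.mkQ_surjective z
    obtain ⟨v, rfl⟩ := hf m
    refine ⟨fun i => Submodule.Quotient.mk (v i), ?_⟩
    simp only [ψ, LinearMap.sum_apply, LinearMap.comp_apply, LinearMap.proj_apply, Submodule.liftQ_apply,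
      LinearMap.toSpanSingleton_apply]
    change _ = φ v
    conv_rhs => rw [pi_eq_sum_univ' v, map_sum]
    simp only [map_smul]
  refine ne_top_of_le_ne_top ?_ (Module.length_le_of_surjective ψ hψ)
  rw [Module.length_pi_of_fintype]
  simp only [Finset.sum_const, nsmul_eq_mul, Finset.card_univ, Fintype.card_fin]
  exact WithTop.mul_ne_top (ENat.natCast_ne_top n)
    (Module.length_ne_top_iff.mpr (isFiniteLength_quotient_span_singleton A hd))

lemma length_quotient_smul_eq {a : A} (ha : IsSMulRegular M a) {e : M}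
    (he : Function.Injective (fun r : A => r • e))
    (hfin : Module.length A (M ⧸ LinearMap.range (LinearMap.toSpanSingleton A M e)) ≠ ⊤) :
    Module.length A (M ⧸ LinearMap.range (LinearMap.lsmul A M a)) = Module.length A (A ⧸ Ideal.span {a}) := by
  set N := LinearMap.range (LinearMap.toSpanSingleton A M e) with hN
  set aN := N.map (LinearMap.lsmul A M a) with haN
  have hle : aN ≤ LinearMap.range (LinearMap.lsmul A M a) := LinearMap.map_le_range
  have haN' : aN ≤ N := Submodule.map_le_iff_le_comap.mpr fun m hm => N.smul_mem a hm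
  have h1 : Module.length A (M ⧸ aN) = Module.length A (M ⧸ N) +
      Module.length A (M ⧸ LinearMap.range (LinearMap.lsmul A M a)) := by
    refine Module.length_eq_add_of_exact (N.mapQ aN (LinearMap.lsmul A M a) (Submodule.le_comap_map _ _))
      (aN.mapQ _ LinearMap.id hle) ?_ ?_ ?_
    · rw [injective_iff_map_eq_zero]
      intro z hz
      obtain ⟨m, rfl⟩ := N.mkQ_surjective z
      obtain ⟨y, hy, hy'⟩ := (Submodule.Quotient.mk_eq_zero aN).mp hz
      exact (Submodule.Quotient.mk_eq_zero N).mpr (ha hy' ▸ hy)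
    · intro z
      obtain ⟨m, rfl⟩ := Submodule.mkQ_surjective _ z
      exact ⟨Submodule.Quotient.mk m, rfl⟩
    · intro z
      obtain ⟨m, rfl⟩ := aN.mkQ_surjective z
      constructor
      · intro h
        obtain ⟨y, hy⟩ := (Submodule.Quotient.mk_eq_zero _).mp h
        exact ⟨Submodule.Quotient.mk y, congrArg Submodule.Quotient.mk hy⟩
      · rintro ⟨y, hy⟩
        obtain ⟨y, rfl⟩ := N.mkQ_surjective y
        rw [← hy]
        exact (Submodule.Quotient.mk_eq_zero _).mpr ⟨y, rfl⟩
  have h2 : Module.length A (M ⧸ aN) = Module.length A (A ⧸ Ideal.span {a}) +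
      Module.length A (M ⧸ N) := by
    have hspan : Ideal.span {a} ≤ aN.comap (LinearMap.toSpanSingleton A M e) := by
      rw [Ideal.span_singleton_le_iff_mem]
      exact ⟨e, ⟨1, one_smul A e⟩, rfl⟩
    refine Module.length_eq_add_of_exact ((Ideal.span {a}).mapQ aN (LinearMap.toSpanSingleton A M e) hspan)
      (aN.mapQ N LinearMap.id haN') ?_ ?_ ?_
    · rw [injective_iff_map_eq_zero]
      intro z hz
      obtain ⟨r, rfl⟩ := Submodule.mkQ_surjective _ z
      obtain ⟨y, ⟨s, rfl⟩, hy'⟩ := (Submodule.Quotient.mk_eq_zero aN).mp hz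
      refine (Submodule.Quotient.mk_eq_zero _).mpr (Ideal.mem_span_singleton'.mpr ⟨s, ?_⟩)
      apply he
      change (s * a) • e = r • e
      rw [mul_comm, mul_smul]
      exact hy'
    · intro z
      obtain ⟨m, rfl⟩ := Submodule.mkQ_surjective _ z
      exact ⟨Submodule.Quotient.mk m, rfl⟩
    · intro z
      obtain ⟨m, rfl⟩ := aN.mkQ_surjective z
      constructor
      · intro h
        obtain ⟨r, hr⟩ := (Submodule.Quotient.mk_eq_zero _).mp h
        exact ⟨Submodule.Quotient.mk r, congrArg Submodule.Quotient.mk hr⟩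
      · rintro ⟨y, hy⟩
        obtain ⟨y, rfl⟩ := Submodule.mkQ_surjective _ y
        rw [← hy]
        exact (Submodule.Quotient.mk_eq_zero _).mpr ⟨y, rfl⟩
  rw [h1, add_comm] at h2
  exact (ENat.add_left_injective_of_ne_top hfin) h2

end Module

variable {A : Type*} [CommRing A] [IsDomain A] [IsNoetherianRing A] [Ring.KrullDimLE 1 A]
  {K : Type*} [Field K] [Algebra A K] [IsFractionRing A K]

omit [IsNoetherianRing A] [Ring.KrullDimLE 1 A] in
lemma exists_smul_eq_algebraMap_of_fg (R : Subalgebra A K) {M : Submodule A R} (hM : M.FG) :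
    ∃ d : A, d ≠ 0 ∧ ∀ m ∈ M, ∃ r : A, d • m = algebraMap A R r := by
  induction M, hM using Submodule.fg_induction with
  | singleton x =>
    obtain ⟨r, s, hs⟩ := IsLocalization.exists_mk'_eq (nonZeroDivisors A) (x : K)
    refine ⟨s, nonZeroDivisors.coe_ne_zero s, fun m hm => ?_⟩
    obtain ⟨c, rfl⟩ := Submodule.mem_span_singleton.mp hm
    refine ⟨c * r, Subtype.ext ?_⟩
    change (s : A) • c • (x : K) = algebraMap A K (c * r)
    rw [← hs, Algebra.smul_def, Algebra.smul_def, mul_left_comm, IsLocalization.mk'_spec', map_mul]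
  | sup M₁ M₂ _ _ h₁ h₂ =>
    obtain ⟨d₁, hd₁, h₁⟩ := h₁
    obtain ⟨d₂, hd₂, h₂⟩ := h₂
    refine ⟨d₁ * d₂, mul_ne_zero hd₁ hd₂, fun m hm => ?_⟩
    obtain ⟨a, ha, b, hb, rfl⟩ := Submodule.mem_sup.mp hm
    obtain ⟨ra, hra⟩ := h₁ a ha
    obtain ⟨rb, hrb⟩ := h₂ b hb
    refine ⟨d₂ * ra + d₁ * rb, ?_⟩
    rw [smul_add, mul_comm d₁ d₂, mul_smul, hra, mul_comm d₂ d₁, mul_smul, hrb,
      Algebra.smul_def, Algebra.smul_def, map_add, map_mul, map_mul]

/-- `R / aR` has length at most that of `A / aA`. -/
lemma length_quotient_le (R : Subalgebra A K) {a : A} (ha : a ≠ 0) :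
    Module.length A (R ⧸ LinearMap.range (LinearMap.lsmul A R a)) ≤ Module.length A (A ⧸ Ideal.span {a}) := by
  classical
  rw [Module.length_quotient]
  refine Order.coheight_le fun l hl => ?_
  choose r hr hr' using fun i : Fin l.length => SetLike.exists_of_lt (show l i.castSucc < l i.succ from l.step i)
  set M : Submodule A R := Submodule.span A (insert (1 : R) (Set.range r)) with hMdef
  have hMfg : M.FG := Submodule.fg_span ((Set.finite_range r).insert 1)
  haveI : Module.Finite A M := Module.Finite.iff_fg.mpr hMfg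
  have h1 : (1 : R) ∈ M := Submodule.subset_span (Set.mem_insert _ _)
  obtain ⟨d, hd, hdM⟩ := exists_smul_eq_algebraMap_of_fg R hMfg
  have hinj : Function.Injective (algebraMap A R) := fun x y h =>
    IsFractionRing.injective A K (congrArg Subtype.val h)
  have hreg : IsSMulRegular M a := fun x y h => by
    have : (algebraMap A K a) * ((x : R) : K) = algebraMap A K a * ((y : R) : K) := by
      have h' := congrArg (fun z : M => ((z : R) : K)) h
      simpa [Algebra.smul_def] using h'
    exact Subtype.ext (Subtype.ext (mul_left_cancel₀ (by simpa using ha) this))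
  have he : Function.Injective (fun c : A => c • (⟨1, h1⟩ : M)) := fun x y h => hinj (by
    have h' := congrArg (fun z : M => (z : R)) h
    simpa [Algebra.smul_def] using h')
  have hfin : Module.length A (M ⧸ LinearMap.range (LinearMap.toSpanSingleton A M ⟨1, h1⟩)) ≠ ⊤ := by
    refine length_quotient_ne_top_of_smul_mem (mem_nonZeroDivisors_of_ne_zero hd) fun m => ?_
    obtain ⟨c, hc⟩ := hdM m m.2
    refine ⟨c, Subtype.ext ?_⟩
    change c • (1 : R) = d • (m : R)
    rw [hc, Algebra.algebraMap_eq_smul_one]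
  rw [← length_quotient_smul_eq hreg he hfin, Module.length_quotient]
  let L : LTSeries (Submodule A M) := LTSeries.mk l.length (fun i => (l i).comap M.subtype) <| by
    refine Fin.strictMono_iff_lt_succ.mpr fun i => ?_
    refine lt_of_le_of_ne (Submodule.comap_mono (show l i.castSucc < l i.succ from l.step i).le) fun h => hr' i ?_
    have : (⟨r i, Submodule.subset_span (Set.mem_insert_of_mem _ ⟨i, rfl⟩)⟩ : M) ∈
        (l i.succ).comap M.subtype := hr i
    rw [← h] at this
    exact this
  refine le_trans ?_ (Order.length_le_coheight (p := L) ?_)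
  · rfl
  · rintro _ ⟨m, rfl⟩
    change (LinearMap.lsmul A M a m : R) ∈ l.head
    rw [hl]
    exact ⟨(m : R), rfl⟩

lemma isFiniteLength_quotient (R : Subalgebra A K) {a : A} (ha : a ≠ 0) :
    IsFiniteLength A (R ⧸ LinearMap.range (LinearMap.lsmul A R a)) :=
  Module.length_ne_top_iff.mp (ne_top_of_le_ne_top
    (Ring.ord_ne_top (mem_nonZeroDivisors_of_ne_zero ha)) (length_quotient_le R ha))

omit [IsDomain A] [IsNoetherianRing A] [Ring.KrullDimLE 1 A] in
lemma exists_algebraMap_mem (R : Subalgebra A K) {I : Ideal R} (hI : I ≠ ⊥) :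
    ∃ a : A, a ≠ 0 ∧ algebraMap A R a ∈ I := by
  obtain ⟨z, hz, hz0⟩ := Submodule.exists_mem_ne_zero_of_ne_bot hI
  obtain ⟨r, s, hs⟩ := IsLocalization.exists_mk'_eq (nonZeroDivisors A) (z : K)
  have h : algebraMap A R r = algebraMap A R s * z := Subtype.ext (by
    change algebraMap A K r = algebraMap A K s * (z : K)
    rw [← hs, IsLocalization.mk'_spec'])
  refine ⟨r, fun h0 => hz0 ?_, h ▸ I.mul_mem_left _ hz⟩
  exact Subtype.ext (hs.symm.trans (by rw [h0, IsLocalization.mk'_zero]; rfl))

/-- The quotient ring `R / aR` is Artinian. -/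
lemma isArtinianRing_quotient (R : Subalgebra A K) {a : A} (ha : a ≠ 0) :
    IsArtinianRing (R ⧸ Ideal.span {algebraMap A R a}) := by
  obtain ⟨-, hart⟩ := isFiniteLength_iff_isNoetherian_isArtinian.mp (isFiniteLength_quotient R ha)
  let f : (R ⧸ LinearMap.range (LinearMap.lsmul A R a)) →ₗ[A] R ⧸ Ideal.span {algebraMap A R a} :=
    Submodule.liftQ _ (Ideal.Quotient.mkₐ A _).toLinearMap (by
      rintro _ ⟨m, rfl⟩
      rw [LinearMap.mem_ker]
      refine Ideal.Quotient.eq_zero_iff_mem.mpr ?_
      rw [LinearMap.lsmul_apply, Algebra.smul_def]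
      exact Ideal.mem_span_singleton'.mpr ⟨m, mul_comm _ _⟩)
  have hsurj : Function.Surjective f := fun z => by
    obtain ⟨r, rfl⟩ := Ideal.Quotient.mk_surjective z
    exact ⟨Submodule.Quotient.mk r, rfl⟩
  haveI : IsArtinian A (R ⧸ Ideal.span {algebraMap A R a}) := isArtinian_of_surjective _ f hsurj
  exact isArtinian_of_tower A this

/-- **Krull–Akizuki**: every intermediate ring is Noetherian. -/
lemma isNoetherianRing_subalgebra (R : Subalgebra A K) : IsNoetherianRing R := by
  refine isNoetherianRing_iff_ideal_fg R |>.mpr fun I => ?_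
  rcases eq_or_ne I ⊥ with rfl | hI
  · exact Submodule.fg_bot
  obtain ⟨a, ha, haI⟩ := exists_algebraMap_mem R hI
  haveI := isArtinianRing_quotient R ha
  refine Ideal.fg_of_fg_map_of_fg_inf_ker_of_surjective (f := Ideal.Quotient.mk (Ideal.span {algebraMap A R a}))
    (IsNoetherian.noetherian _) ?_ Ideal.Quotient.mk_surjective
  rw [Ideal.mk_ker, inf_eq_right.mpr ((Ideal.span_singleton_le_iff_mem _).mpr haI)]
  exact Submodule.fg_span_singleton _

/-- **Krull–Akizuki**: every intermediate ring has dimension at most one. -/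
lemma dimensionLEOne_subalgebra (R : Subalgebra A K) : Ring.DimensionLEOne R where
  maximalOfPrime {P} hP0 hP := by
    obtain ⟨a, ha, haI⟩ := exists_algebraMap_mem R hP0
    haveI := isArtinianRing_quotient R ha
    have hker : RingHom.ker (Ideal.Quotient.mk (Ideal.span {algebraMap A R a})) ≤ P := by
      rw [Ideal.mk_ker, Ideal.span_singleton_le_iff_mem]; exact haI
    haveI := Ideal.map_isPrime_of_surjective Ideal.Quotient.mk_surjective hker
    have h2 := Ideal.comap_isMaximal_of_surjective (Ideal.Quotient.mk (Ideal.span {algebraMap A R a}))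
      Ideal.Quotient.mk_surjective (K := P.map (Ideal.Quotient.mk _))
    rwa [Ideal.comap_map_of_surjective _ Ideal.Quotient.mk_surjective, ← RingHom.ker_eq_comap_bot,
      sup_eq_left.mpr hker] at h2

/-- Only finitely many maximal ideals of `R` contain a given non-zero element of `A`. -/
lemma finite_maximal_containing (R : Subalgebra A K) {a : A} (ha : a ≠ 0) :
    {P : Ideal R | P.IsMaximal ∧ algebraMap A R a ∈ P}.Finite := by
  haveI := isArtinianRing_quotient R ha
  refine Set.Finite.subset ((IsArtinianRing.setOfPred_isMaximal_finite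
    (R := R ⧸ Ideal.span {algebraMap A R a})).image (Ideal.comap (Ideal.Quotient.mk _))) ?_
  rintro P ⟨hP, haP⟩
  have hker : RingHom.ker (Ideal.Quotient.mk (Ideal.span {algebraMap A R a})) ≤ P := by
    rw [Ideal.mk_ker, Ideal.span_singleton_le_iff_mem]; exact haP
  haveI := Ideal.map_isPrime_of_surjective Ideal.Quotient.mk_surjective hker (I := P)
  exact ⟨P.map (Ideal.Quotient.mk _), Ideal.isMaximal_of_isPrime _, by
    rw [Ideal.comap_map_of_surjective _ Ideal.Quotient.mk_surjective, ← RingHom.ker_eq_comap_bot,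
      sup_eq_left.mpr hker]⟩

end Groth.Agent.OneDim
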