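import Groth.Agent.OneDim.Semilocal
import Mathlib.AlgebraicGeometry.OpenImmersion
import Mathlib.AlgebraicGeometry.AffineScheme
import Mathlib.RingTheory.Localization.BaseChange
import Mathlib.RingTheory.Spectrum.Prime.Topology
import Mathlib.Algebra.Category.Ring.Constructions
import Mathlib.RingTheory.Ideal.Span
import Mathlib.RingTheory.KrullDimension.Field
import Mathlib.Algebra.BigOperators.Field

/-!
# Gluing one-dimensional semilocal subrings of a field

`A i ⊆ K` semilocal, one-dimensional Noetherian, pairwise generating `K`, `R = ⋂ A i`: there are `t i ∈ R`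
with `A i = R[1/t i]`, lying in every maximal ideal of every other `A j` and spanning the unit ideal of `R`.
-/

universe u

open AlgebraicGeometry CategoryTheory

set_option linter.style.haveILetI false

namespace Groth.Agent.OneDim

variable {K : Type u} [Field K]

lemma krullDimLE_one_of_eq {A : Type*} [CommRing A] (h : ringKrullDim A = 1) : Ring.KrullDimLE 1 A :=
  Ring.krullDimLE_iff.mpr h.le

lemma not_isField_of_eq {A : Type*} [CommRing A] (h : ringKrullDim A = 1) : ¬ IsField A := fun hf => by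
  rw [ringKrullDim_eq_zero_of_isField hf] at h
  exact zero_ne_one h

/-- A subring with fraction field `K` inside a valuation ring generates at most that valuation ring. -/
lemma not_le_of_sup_eq_top {A B : Subring K} (h : A ⊔ B = ⊤) {O : ValuationSubring K}
    (hB : B ≤ O.toSubring) (hO : O ≠ ⊤) : ¬ A ≤ O.toSubring := fun hA => hO (by
  refine eq_top_iff.mpr fun z _ => ?_
  exact (sup_le hA hB) (h ▸ Subring.mem_top z : z ∈ A ⊔ B))

section

variable {ι : Type} [Finite ι] (A : ι → Subring K) [∀ i, IsNoetherianRing (A i)]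
  [∀ i, IsFractionRing (A i) K]

lemma exists_separating (hdim : ∀ i, ringKrullDim (A i) = 1) (hsl : ∀ i, Finite (MaximalSpectrum (A i)))
    (hgen : ∀ i j, i ≠ j → A i ⊔ A j = ⊤) (i : ι) :
    ∃ t : K, t ≠ 0 ∧ t⁻¹ ∈ A i ∧ (∀ j, t ∈ A j) ∧
      ∀ j, j ≠ i → ∀ O : ValuationSubring K, A j ≤ O.toSubring → O ≠ ⊤ → t ∈ O.nonunits := by
  classical
  haveI := fun j => krullDimLE_one_of_eq (hdim j)
  haveI := Fintype.ofFinite ι
  set S : Finset (ValuationSubring K) := (Finset.univ.filter (· ≠ i)).biUnion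
    (fun j => (finite_valuationSubring_ge (A j) (hsl j)).toFinset)
  have hS : ∀ O ∈ S, ∃ j, j ≠ i ∧ A j ≤ O.toSubring ∧ O ≠ ⊤ := by
    intro O hO
    obtain ⟨j, hj, hO'⟩ := Finset.mem_biUnion.mp hO
    rw [Set.Finite.mem_toFinset] at hO'
    exact ⟨j, (Finset.mem_filter.mp hj).2, hO'⟩
  obtain ⟨u, hu, hu0, huinv, huS⟩ := exists_unit_notMem (A i) (hsl i) S
    (fun O hO y hy w => by
      obtain ⟨j, -, h1, h2⟩ := hS O hO
      exact eventually_pow_mul_mem_nonunits (A j) h1 h2 hy w)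
    (fun O hO => by
      obtain ⟨j, hj, h1, h2⟩ := hS O hO
      exact not_le_of_sup_eq_top (hgen i j (Ne.symm hj)) h1 h2)
  have hy : ∀ j, j ≠ i → ∀ O : ValuationSubring K, A j ≤ O.toSubring → O ≠ ⊤ → u⁻¹ ∈ O.nonunits :=
    fun j hj O h1 h2 => huS O (Finset.mem_biUnion.mpr
      ⟨j, Finset.mem_filter.mpr ⟨Finset.mem_univ _, hj⟩, (Set.Finite.mem_toFinset _).mpr ⟨h1, h2⟩⟩)
  choose N hN using fun j : {j // j ≠ i} => eventually_pow_mul_mem (A j.1) (hy j.1 j.2) 1
  set n := Finset.univ.sup N + 1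
  refine ⟨u⁻¹ ^ n, pow_ne_zero _ (inv_ne_zero hu0), ?_, fun j => ?_, fun j hj O h1 h2 => ?_⟩
  · rw [← inv_pow, inv_inv]
    exact pow_mem hu n
  · rcases eq_or_ne j i with rfl | hj
    · exact pow_mem huinv n
    · have := hN ⟨j, hj⟩ n ((Finset.le_sup (Finset.mem_univ (⟨j, hj⟩ : {j // j ≠ i}))).trans (Nat.le_succ _))
      rwa [mul_one] at this
  · obtain ⟨hm, hm'⟩ := O.mem_nonunits_iff_exists_mem_maximalIdeal.mp (hy j hj O h1 h2)
    exact O.coe_mem_nonunits_iff.mpr (Ideal.pow_mem_of_mem _ hm' n (Nat.succ_pos _))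

omit [Finite ι] in
/-- A non-unit in every valuation ring over `B` lies in every maximal ideal of `B`. -/
lemma mem_of_isMaximal {B : Subring K} (hnf : ¬ IsField B) {t : B}
    (ht : ∀ O : ValuationSubring K, B ≤ O.toSubring → O ≠ ⊤ → (t : K) ∈ O.nonunits)
    {m : Ideal B} (hm : m.IsMaximal) : t ∈ m := by
  have h0 : m ≠ ⊥ := Ring.ne_bot_of_isMaximal_of_not_isField hm hnf
  obtain ⟨O, h1, h2, hiff⟩ := exists_valuationSubring_dominating B m h0
  exact (hiff t).mp (ht O h1 h2)

end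

section Glue

variable {ι : Type} [Finite ι] [Nonempty ι] {A : ι → Subring K} [∀ i, IsNoetherianRing (A i)]
  [∀ i, IsFractionRing (A i) K] {R : Subring K}

/-- The data used to glue: separating elements. -/
def IsSeparating (A : ι → Subring K) (t : ι → K) : Prop :=
  ∀ i, t i ≠ 0 ∧ (t i)⁻¹ ∈ A i ∧ (∀ j, t i ∈ A j) ∧
    ∀ j, j ≠ i → ∀ O : ValuationSubring K, A j ≤ O.toSubring → O ≠ ⊤ → t i ∈ O.nonunits

omit [Finite ι] [Nonempty ι] in
lemma exists_isSeparating [Finite ι] (hdim : ∀ i, ringKrullDim (A i) = 1)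
    (hsl : ∀ i, Finite (MaximalSpectrum (A i))) (hgen : ∀ i j, i ≠ j → A i ⊔ A j = ⊤) :
    ∃ t, IsSeparating A t := by
  choose t ht using exists_separating A hdim hsl hgen
  exact ⟨t, ht⟩

variable (hR : ∀ z, z ∈ R ↔ ∀ i, z ∈ A i) {t : ι → K} (ht : IsSeparating A t)
  (hdim : ∀ i, ringKrullDim (A i) = 1)
include hR ht hdim

omit [Nonempty ι] in
lemma exists_pow_mul_mem {i : ι} {a : K} (ha : a ∈ A i) : ∃ n : ℕ, t i ^ n * a ∈ R := by
  classical
  haveI := fun j => krullDimLE_one_of_eq (hdim j)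
  haveI := Fintype.ofFinite ι
  choose N hN using fun j : {j // j ≠ i} => eventually_pow_mul_mem (A j.1) ((ht i).2.2.2 j.1 j.2) a
  refine ⟨Finset.univ.sup N, (hR _).mpr fun j => ?_⟩
  rcases eq_or_ne j i with rfl | hj
  · exact (A j).mul_mem (pow_mem ((ht j).2.2.1 j) _) ha
  · exact hN ⟨j, hj⟩ _ (Finset.le_sup (Finset.mem_univ (⟨j, hj⟩ : {j // j ≠ i})))

omit [Finite ι] [Nonempty ι] [∀ i, IsNoetherianRing (A i)] [∀ i, IsFractionRing (A i) K] hdim in
lemma t_mem (i : ι) : t i ∈ R := (hR _).mpr (ht i).2.2.1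

omit [∀ i, IsNoetherianRing (A i)] [∀ i, IsFractionRing (A i) K] in
lemma span_eq_top : Ideal.span (Set.range fun i => (⟨t i, t_mem hR ht i⟩ : R)) = ⊤ := by
  classical
  haveI := Fintype.ofFinite ι
  have hu : ∀ j, ∃ h : (∑ i, t i) ∈ A j, IsUnit (⟨_, h⟩ : A j) := by
    intro j
    have h : (∑ i, t i) ∈ A j := Subring.sum_mem _ fun i _ => (ht i).2.2.1 j
    refine ⟨h, Classical.byContradiction fun hcon => ?_⟩
    obtain ⟨m, hm, hmem⟩ := exists_max_ideal_of_mem_nonunits hcon
    have he : (⟨_, h⟩ : A j) = ∑ i, (⟨t i, (ht i).2.2.1 j⟩ : A j) :=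
      Subtype.ext (by simp)
    rw [he, Finset.sum_eq_add_sum_sdiff_singleton_of_mem (Finset.mem_univ j)] at hmem
    have hrest : ∑ i ∈ Finset.univ \ {j}, (⟨t i, (ht i).2.2.1 j⟩ : A j) ∈ m :=
      Ideal.sum_mem _ fun i hi => mem_of_isMaximal (not_isField_of_eq (hdim j))
        (fun O h1 h2 => (ht i).2.2.2 j (fun e => by simp [e] at hi) O h1 h2) hm
    exact hm.ne_top (Ideal.eq_top_of_isUnit_mem _ ((m.add_mem_iff_left hrest).mp hmem)
      (isUnit_of_inv_mem _ (ht j).1 (ht j).2.1))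
  have hinv : (∑ i, t i)⁻¹ ∈ R := (hR _).mpr fun j => inv_mem_of_isUnit _ (hu j).choose_spec
  have hne : (∑ i, t i) ≠ 0 := fun h0 => by
    have hj := (hu (Classical.arbitrary ι)).choose_spec
    exact not_isUnit_zero ((Subtype.ext h0 : (⟨_, (hu (Classical.arbitrary ι)).choose⟩ : A _) = 0) ▸ hj)
  rw [Ideal.eq_top_iff_one]
  have h1 : (1 : R) = ∑ i, (⟨t i, t_mem hR ht i⟩ : R) * ⟨_, hinv⟩ := by
    refine Subtype.ext ?_
    rw [AddSubmonoidClass.coe_finsetSum]
    simp only [Subring.coe_one, Subring.coe_mul, ← Finset.sum_mul, mul_inv_cancel₀ hne]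
  rw [h1]
  exact Ideal.sum_mem _ fun i _ => Ideal.mul_mem_right _ _ (Ideal.subset_span ⟨i, rfl⟩)

omit [Nonempty ι] in
lemma isLocalizationAway {i : ι} (h : R ≤ A i) :
    letI := (Subring.inclusion h).toAlgebra
    IsLocalization.Away (⟨t i, t_mem hR ht i⟩ : R) (A i) := by
  letI := (Subring.inclusion h).toAlgebra
  refine IsLocalization.Away.mk _ (isUnit_of_inv_mem _ (ht i).1 (ht i).2.1) (fun a => ?_)
    (fun a b hab => ⟨0, ?_⟩)
  · obtain ⟨n, hn⟩ := exists_pow_mul_mem hR ht hdim a.2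
    exact ⟨n, ⟨_, hn⟩, Subtype.ext (mul_comm _ _)⟩
  · rw [pow_zero, one_mul, one_mul]
    exact Subtype.ext (congrArg Subtype.val hab :)

omit [Nonempty ι] in
lemma isOpenImmersion {i : ι} (h : R ≤ A i) :
    IsOpenImmersion (Spec.map (CommRingCat.ofHom (Subring.inclusion h))) := by
  letI := (Subring.inclusion h).toAlgebra
  haveI := isLocalizationAway hR ht hdim h
  exact IsOpenImmersion.of_isLocalization (⟨t i, t_mem hR ht i⟩ : R)

omit [Nonempty ι] in
lemma range_eq {i : ι} (h : R ≤ A i) :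
    Set.range (Spec.map (CommRingCat.ofHom (Subring.inclusion h))).base =
      (PrimeSpectrum.basicOpen (⟨t i, t_mem hR ht i⟩ : R) : Set (PrimeSpectrum R)) := by
  letI := (Subring.inclusion h).toAlgebra
  haveI := isLocalizationAway hR ht hdim h
  exact PrimeSpectrum.localization_away_comap_range (A i) _

lemma iUnion_range_eq (h : ∀ i, R ≤ A i) :
    ⋃ i, Set.range (Spec.map (CommRingCat.ofHom (Subring.inclusion (h i)))).base = Set.univ := by
  refine Set.eq_univ_of_forall fun m => ?_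
  by_contra hcon
  simp only [range_eq hR ht hdim] at hcon
  refine m.2.ne_top (top_le_iff.mp ?_)
  rw [← span_eq_top hR ht hdim, Ideal.span_le]
  rintro _ ⟨i, rfl⟩
  by_contra hi
  exact hcon (Set.mem_iUnion.mpr ⟨i, hi⟩)

lemma exists_notMem_prime (P : Ideal R) [P.IsPrime] : ∃ i, (⟨t i, t_mem hR ht i⟩ : R) ∉ P := by
  by_contra! hcon
  exact Ideal.IsPrime.ne_top ‹_› (top_le_iff.mp
    (span_eq_top hR ht hdim ▸ Ideal.span_le.mpr (by rintro _ ⟨i, rfl⟩; exact hcon i)))

lemma isNoetherianRing : IsNoetherianRing R := by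
  classical
  have h : ∀ i, R ≤ A i := fun i z hz => (hR z).mp hz i
  refine isNoetherianRing_iff_ideal_fg R |>.mpr fun I => ?_
  have hstep : ∀ i, ∃ J : Ideal R, J.FG ∧ J ≤ I ∧
      ∀ z ∈ I, (Subring.inclusion (h i) z) ∈ J.map (Subring.inclusion (h i)) := by
    intro i
    obtain ⟨_, ⟨J, ⟨hJ, hJI⟩, rfl⟩, hmax⟩ := set_has_maximal_iff_noetherian.mpr
      (inferInstance : IsNoetherianRing (A i))
      ((Ideal.map (Subring.inclusion (h i))) '' {J : Ideal R | J.FG ∧ J ≤ I})
      (Set.Nonempty.image _ ⟨⊥, Submodule.fg_bot, bot_le⟩)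
    refine ⟨J, hJ, hJI, fun z hz => ?_⟩
    have := hmax ((J ⊔ Ideal.span {z}).map (Subring.inclusion (h i)))
      ⟨J ⊔ Ideal.span {z}, ⟨Submodule.FG.sup hJ (Submodule.fg_span_singleton z),
        sup_le hJI ((Ideal.span_singleton_le_iff_mem _).mpr hz)⟩, rfl⟩
    rw [← le_antisymm (Ideal.map_mono le_sup_left)
      (by by_contra hn; exact this (lt_of_le_not_ge (Ideal.map_mono le_sup_left) hn)) |>.symm]
    exact Ideal.mem_map_of_mem _ (le_sup_right (a := J) (Ideal.mem_span_singleton_self z))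
  choose J hJ hJI hJz using hstep
  haveI := Fintype.ofFinite ι
  have hsup : I = Finset.univ.sup J := by
    refine le_antisymm (fun z hz => ?_) (Finset.sup_le fun i _ => hJI i)
    refine Submodule.mem_of_span_eq_top_of_smul_pow_mem (Finset.univ.sup J : Ideal R) _
      (span_eq_top hR ht hdim) z ?_
    rintro ⟨_, i, rfl⟩
    letI := (Subring.inclusion (h i)).toAlgebra
    haveI := isLocalizationAway hR ht hdim (h i)
    obtain ⟨⟨⟨x, hx⟩, ⟨_, n, rfl⟩⟩, hxs⟩ :=
      (IsLocalization.mem_map_algebraMap_iff (Submonoid.powers (⟨t i, t_mem hR ht i⟩ : R)) (A i)).mp (hJz i z hz)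
    refine ⟨n, ?_⟩
    have he : (⟨t i, t_mem hR ht i⟩ : R) ^ n • z = x := by
      refine (Subring.inclusion_injective (h i) ?_)
      rw [smul_eq_mul, mul_comm, map_mul]
      exact hxs
    rw [he]
    exact (Finset.le_sup (f := J) (Finset.mem_univ i)) hx
  rw [hsup]
  exact Submodule.fg_finset_sup _ _ fun i _ => hJ i

lemma isFractionRing : IsFractionRing R K := by
  have h : ∀ i, R ≤ A i := fun i z hz => (hR z).mp hz i
  let i := Classical.arbitrary ι
  refine IsFractionRing.of_field R K fun z => ?_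
  obtain ⟨a, b, rfl⟩ := IsLocalization.exists_mk'_eq (nonZeroDivisors (A i)) z
  obtain ⟨n, hn⟩ := exists_pow_mul_mem hR ht hdim (i := i) a.2
  obtain ⟨m, hm⟩ := exists_pow_mul_mem hR ht hdim (i := i) (b : A i).2
  refine ⟨⟨_, R.mul_mem (pow_mem (t_mem hR ht i) m) hn⟩, ⟨_, R.mul_mem (pow_mem (t_mem hR ht i) n) hm⟩, ?_⟩
  rw [IsFractionRing.mk'_eq_div]
  change (a : K) / ((b : A i) : K) = t i ^ m * (t i ^ n * (a : K)) / (t i ^ n * (t i ^ m * ((b : A i) : K)))
  have := (ht i).1
  field_simp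

lemma ringKrullDim_eq : ringKrullDim R = 1 := by
  have h : ∀ i, R ≤ A i := fun i z hz => (hR z).mp hz i
  haveI := fun j => krullDimLE_one_of_eq (hdim j)
  have hle : Ring.KrullDimLE 1 R := by
    rw [Ring.krullDimLE_one_iff_of_noZeroDivisors]
    intro P hP0 hP
    obtain ⟨Q, hQ, hPQ⟩ := Ideal.exists_le_maximal P hP.ne_top
    obtain ⟨i, hi⟩ := exists_notMem_prime hR ht hdim Q
    letI := (Subring.inclusion (h i)).toAlgebra
    haveI := isLocalizationAway hR ht hdim (h i)
    have hdQ : Disjoint (Submonoid.powers (⟨t i, t_mem hR ht i⟩ : R) : Set R) (Q : Set R) := by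
      rw [Set.disjoint_left]
      rintro _ ⟨n, rfl⟩ hn
      exact hi (hQ.isPrime.mem_of_pow_mem n hn)
    have hdP := hdQ.mono_right (SetLike.coe_subset_coe.mpr hPQ)
    have h1 := IsLocalization.isPrime_of_isPrime_disjoint _ (A i) P hP hdP
    have h2 := IsLocalization.isPrime_of_isPrime_disjoint _ (A i) Q hQ.isPrime hdQ
    have hne : P.map (algebraMap R (A i)) ≠ ⊥ := fun h0 => hP0 (by
      exact (Ideal.map_eq_bot_iff_of_injective (Subring.inclusion_injective (h i))).mp h0)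
    have hmax := (Ring.krullDimLE_one_iff_of_noZeroDivisors.mp inferInstance) _ hne h1
    have he := hmax.eq_of_le h2.ne_top (Ideal.map_mono hPQ)
    have := congrArg (Ideal.under R) he
    rw [IsLocalization.under_map_of_isPrime_disjoint _ (A i) hP hdP,
      IsLocalization.under_map_of_isPrime_disjoint _ (A i) hQ.isPrime hdQ] at this
    exact this ▸ hQ
  refine le_antisymm (Ring.krullDimLE_iff.mp hle) ?_
  haveI := isFractionRing hR ht hdim
  by_contra hcon
  haveI : Ring.KrullDimLE 0 R := Ring.krullDimLE_iff.mpr (by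
    rw [not_le, ← zero_add (1 : WithBot ℕ∞)] at hcon
    exact ENat.WithBot.lt_add_one_iff.mp hcon)
  have hf : IsField R := Ring.KrullDimLE.isField_of_isDomain
  refine not_isField_of_eq (hdim (Classical.arbitrary ι)) ?_
  have htop : R = ⊤ := eq_top_iff.mpr fun z _ => by
    obtain ⟨a, b, rfl⟩ := IsLocalization.exists_mk'_eq (nonZeroDivisors R) z
    obtain ⟨c, hc⟩ := hf.mul_inv_cancel (nonZeroDivisors.coe_ne_zero b)
    have hc' : ((b : R) : K) * (c : K) = 1 := congrArg Subtype.val hc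
    rw [IsFractionRing.mk'_eq_div]
    change (a : K) / ((b : R) : K) ∈ R
    rw [div_eq_mul_inv, ← eq_inv_of_mul_eq_one_right hc']
    exact R.mul_mem a.2 c.2
  refine ⟨⟨0, 1, zero_ne_one⟩, mul_comm, fun {x} hx => ?_⟩
  exact ⟨⟨(x : K)⁻¹, h _ (htop ▸ Subring.mem_top _)⟩,
    Subtype.ext (mul_inv_cancel₀ (fun h0 => hx (Subtype.ext h0)))⟩

lemma finite_maximalSpectrum (hsl : ∀ i, Finite (MaximalSpectrum (A i))) :
    Finite (MaximalSpectrum R) := by
  classical
  have h : ∀ i, R ≤ A i := fun i z hz => (hR z).mp hz i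
  haveI := hsl
  have key : ∀ m : MaximalSpectrum R, ∃ p : Σ i, MaximalSpectrum (A i),
      p.2.asIdeal.comap (Subring.inclusion (h p.1)) = m.asIdeal := by
    intro m
    obtain ⟨i, hi⟩ := exists_notMem_prime hR ht hdim m.asIdeal
    letI := (Subring.inclusion (h i)).toAlgebra
    haveI := isLocalizationAway hR ht hdim (h i)
    have hd : Disjoint (Submonoid.powers (⟨t i, t_mem hR ht i⟩ : R) : Set R) (m.asIdeal : Set R) := by
      rw [Set.disjoint_left]
      rintro _ ⟨n, rfl⟩ hn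
      exact hi (m.isMaximal.isPrime.mem_of_pow_mem n hn)
    obtain ⟨M, hM, hle⟩ := Ideal.exists_le_maximal _
      (IsLocalization.isPrime_of_isPrime_disjoint _ (A i) m.asIdeal m.isMaximal.isPrime hd).ne_top
    refine ⟨⟨i, ⟨M, hM⟩⟩, (m.isMaximal.eq_of_le ?_ (Ideal.map_le_iff_le_comap.mp hle)).symm⟩
    exact Ideal.comap_ne_top _ hM.ne_top
  choose g hg using key
  exact Finite.of_injective g fun a b hab => MaximalSpectrum.ext (by rw [← hg a, ← hg b, hab])

lemma existsUnique_mem_range (h : ∀ i, R ≤ A i) (m : PrimeSpectrum R) (hm : m.asIdeal.IsMaximal) :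
    ∃! i, m ∈ Set.range (Spec.map (CommRingCat.ofHom (Subring.inclusion (h i)))).base := by
  obtain ⟨i, hi⟩ := exists_notMem_prime hR ht hdim m.asIdeal
  refine ⟨i, (Set.ext_iff.mp (range_eq hR ht hdim (h i)) m).mpr hi, fun j hj => ?_⟩
  by_contra hji
  replace hj := (Set.ext_iff.mp (range_eq hR ht hdim (h j)) m).mp hj
  letI := (Subring.inclusion (h i)).toAlgebra
  haveI := isLocalizationAway hR ht hdim (h i)
  have hd : Disjoint (Submonoid.powers (⟨t i, t_mem hR ht i⟩ : R) : Set R) (m.asIdeal : Set R) := by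
    rw [Set.disjoint_left]
    rintro _ ⟨n, rfl⟩ hn
    exact hi (hm.isPrime.mem_of_pow_mem n hn)
  obtain ⟨M, hM, hle⟩ := Ideal.exists_le_maximal _
    (IsLocalization.isPrime_of_isPrime_disjoint _ (A i) m.asIdeal hm.isPrime hd).ne_top
  have he : m.asIdeal = M.comap (Subring.inclusion (h i)) :=
    hm.eq_of_le (Ideal.comap_ne_top _ hM.ne_top) (Ideal.map_le_iff_le_comap.mp hle)
  refine hj (show (⟨t j, t_mem hR ht j⟩ : R) ∈ m.asIdeal from ?_)
  rw [he, Ideal.mem_comap]
  exact mem_of_isMaximal (not_isField_of_eq (hdim i))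
    (fun O h1 h2 => (ht j).2.2.2 i (fun e => hji e.symm) O h1 h2) hM

omit [Nonempty ι] in
lemma isPushout {i j : ι} (hij : i ≠ j) (hi : R ≤ A i) (hj : R ≤ A j) :
    CategoryTheory.IsPushout (CommRingCat.ofHom (Subring.inclusion hi))
      (CommRingCat.ofHom (Subring.inclusion hj))
      (CommRingCat.ofHom (A i).subtype) (CommRingCat.ofHom (A j).subtype) := by
  haveI := fun j => krullDimLE_one_of_eq (hdim j)
  letI := (Subring.inclusion hi).toAlgebra
  letI := (Subring.inclusion hj).toAlgebra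
  haveI := isLocalizationAway hR ht hdim hi
  haveI : IsScalarTower R (A i) K := IsScalarTower.of_algebraMap_eq fun _ => rfl
  haveI : IsScalarTower R (A j) K := IsScalarTower.of_algebraMap_eq fun _ => rfl
  haveI : IsLocalization (Algebra.algebraMapSubmonoid (A j)
      (Submonoid.powers (⟨t i, t_mem hR ht i⟩ : R))) K := by
    rw [Algebra.algebraMapSubmonoid, Submonoid.map_powers]
    refine IsLocalization.Away.mk _ (IsUnit.mk0 _ (ht i).1) (fun z => ?_) (fun a b hab => ⟨0, ?_⟩)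
    · obtain ⟨N, hN⟩ := eventually_pow_mul_mem (A j) ((ht i).2.2.2 j (Ne.symm hij)) z
      exact ⟨N, ⟨_, hN N le_rfl⟩, mul_comm _ _⟩
    · rw [pow_zero, one_mul, one_mul]
      exact Subtype.ext hab
  have hp : Algebra.IsPushout R (A i) (A j) K :=
    (Algebra.isPushout_of_isLocalization (A := A i) (T := A j) (B := K)
      (Submonoid.powers (⟨t i, t_mem hR ht i⟩ : R))).symm
  exact CommRingCat.isPushout_of_isPushout R (A i) (A j) K

end Glue

end Groth.Agent.OneDim
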