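import Groth.Agent.OneDim.KrullAkizuki
import Mathlib.RingTheory.Valuation.LocalSubring
import Mathlib.RingTheory.Valuation.ValuationSubring
import Mathlib.RingTheory.DiscreteValuationRing.TFAE
import Mathlib.RingTheory.DedekindDomain.Dvr
import Mathlib.RingTheory.IntegralClosure.IntegrallyClosed

/-!
# Valuation rings over one-dimensional semilocal subrings of a field

For a one-dimensional Noetherian `B ⊆ K = Frac B`: valuation rings between `B` and `K` are DVRs
(`isDiscreteValuationRing_of_le`), finitely many if `B` is semilocal (`finite_valuationSubring_ge`),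
elements that are non-units in all of them have powers swallowing any denominator
(`eventually_pow_mul_mem`), and the approximation lemmas `exists_notMem`, `exists_unit_notMem`.
-/

universe u

set_option linter.style.haveILetI false

namespace Groth.Agent.OneDim

variable {K : Type u} [Field K]

/-- A subring containing `B`, as a `B`-subalgebra of `K`. -/
def subalg (B R : Subring K) (h : B ≤ R) : Subalgebra B K :=
  { R.toSubsemiring with algebraMap_mem' := fun b => h b.2 }

lemma mem_subalg {B R : Subring K} (h : B ≤ R) {z : K} : z ∈ subalg B R h ↔ z ∈ R := Iff.rfl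

/-- `subalg B R h` and `R` are the same ring. -/
def subalgEquiv (B R : Subring K) (h : B ≤ R) : subalg B R h ≃+* R where
  toFun z := ⟨z.1, z.2⟩
  invFun z := ⟨z.1, z.2⟩
  left_inv _ := rfl
  right_inv _ := rfl
  map_mul' _ _ := rfl
  map_add' _ _ := rfl

lemma inv_mem_of_isUnit {R : Subring K} {x : K} (hx : x ∈ R) (h : IsUnit (⟨x, hx⟩ : R)) : x⁻¹ ∈ R := by
  obtain ⟨v, hv⟩ := h.exists_right_inv
  have h1 : x * (v : K) = 1 := congrArg Subtype.val hv
  exact (eq_inv_of_mul_eq_one_right h1) ▸ v.2

lemma isUnit_of_inv_mem {R : Subring K} {x : K} (hx : x ∈ R) (h0 : x ≠ 0) (h : x⁻¹ ∈ R) :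
    IsUnit (⟨x, hx⟩ : R) :=
  IsUnit.of_mul_eq_one ⟨x⁻¹, h⟩ (Subtype.ext (mul_inv_cancel₀ h0))

lemma inv_mem_nonunits_of_notMem (O : ValuationSubring K) {x : K} (hx : x ∉ O) : x⁻¹ ∈ O.nonunits :=
  O.inv_mem_nonunits_iff.mpr (Or.inr hx)

lemma mul_mem_nonunits (O : ValuationSubring K) {x y : K} (hx : x ∈ O) (hy : y ∈ O.nonunits) :
    x * y ∈ O.nonunits := by
  rw [O.mem_nonunits_iff] at hy ⊢
  rw [map_mul]
  exact mul_lt_one_of_nonneg_of_lt_one_right ((O.valuation_le_one_iff x).mpr hx) zero_le hy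

lemma notMem_of_mem_nonunits_inv (O : ValuationSubring K) {x : K} (h0 : x ≠ 0) (h : x⁻¹ ∈ O.nonunits) :
    x ∉ O :=
  (O.inv_mem_nonunits_iff.mp h).resolve_left h0

lemma isUnit_of_valuationSubring_eq_top {O : ValuationSubring K} (h : ∀ x ∈ O, x ≠ 0 → x⁻¹ ∈ O) :
    O = ⊤ := by
  refine eq_top_iff.mpr fun z _ => ?_
  rcases O.mem_or_inv_mem z with hz | hz
  · exact hz
  · rcases eq_or_ne z 0 with rfl | h0
    · exact O.zero_mem
    · simpa using h _ hz (inv_ne_zero h0)

variable (B : Subring K) [IsFractionRing B K]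

/-- A proper valuation ring containing `B` has non-zero centre on `B`. -/
lemma exists_mem_nonunits {O : ValuationSubring K} (hBO : B ≤ O.toSubring) (hO : O ≠ ⊤) :
    ∃ b : B, b ≠ 0 ∧ (b : K) ∈ O.nonunits := by
  by_contra! h
  refine hO (eq_top_iff.mpr fun z _ => ?_)
  obtain ⟨a, s, rfl⟩ := IsLocalization.exists_mk'_eq (nonZeroDivisors B) z
  have hs : ((s : B) : K) ≠ 0 := fun h0 => nonZeroDivisors.coe_ne_zero s (Subtype.ext h0)
  have hinv : ((s : B) : K)⁻¹ ∈ O := by
    by_contra hn
    exact h _ (nonZeroDivisors.coe_ne_zero s) (inv_inv ((s : B) : K) ▸ inv_mem_nonunits_of_notMem O hn)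
  have := O.mul_mem _ _ (hBO a.2) hinv
  rw [IsFractionRing.mk'_eq_div, div_eq_mul_inv]
  exact this

variable [IsNoetherianRing B] [Ring.KrullDimLE 1 B]

/-- The centre of a proper valuation ring on `B` is a maximal ideal. -/
lemma isMaximal_centre {O : ValuationSubring K} (hBO : B ≤ O.toSubring) (hO : O ≠ ⊤) :
    (Ideal.comap (Subring.inclusion hBO) (IsLocalRing.maximalIdeal O)).IsMaximal := by
  haveI : IsLocalRing O.toSubring := inferInstanceAs (IsLocalRing O)
  refine (Ring.krullDimLE_one_iff_of_noZeroDivisors.mp inferInstance) _ ?_ inferInstance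
  obtain ⟨b, hb, hb'⟩ := exists_mem_nonunits B hBO hO
  intro h
  have hmem : b ∈ Ideal.comap (Subring.inclusion hBO) (IsLocalRing.maximalIdeal O) :=
    (O.coe_mem_nonunits_iff (a := ⟨(b : K), hBO b.2⟩)).mp hb'
  rw [h] at hmem
  exact hb (Ideal.mem_bot.mp hmem)

/-- A proper valuation ring containing `B` is a DVR. -/
lemma isDiscreteValuationRing_of_le {O : ValuationSubring K} (hBO : B ≤ O.toSubring) (hO : O ≠ ⊤) :
    IsDiscreteValuationRing O := by
  haveI : IsNoetherianRing O.toSubring :=
    @isNoetherianRing_of_ringEquiv _ _ _ _ (subalgEquiv B O.toSubring hBO)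
      (isNoetherianRing_subalgebra (subalg B O.toSubring hBO))
  haveI : IsNoetherianRing O := ‹IsNoetherianRing O.toSubring›
  have hnf : ¬ IsField O := fun hf => by
    refine hO (isUnit_of_valuationSubring_eq_top fun x hx h0 => ?_)
    obtain ⟨w, hw⟩ := hf.mul_inv_cancel (a := ⟨x, hx⟩) (fun h => h0 (congrArg Subtype.val h))
    have h1 : x * (w : K) = 1 := congrArg Subtype.val hw
    exact (eq_inv_of_mul_eq_one_right h1) ▸ w.2
  exact ((IsDiscreteValuationRing.TFAE O hnf).out 1 0).mp (inferInstance : ValuationRing O)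

omit [IsFractionRing B K] [IsNoetherianRing B] [Ring.KrullDimLE 1 B] in
/-- A non-zero prime is dominated by a proper valuation ring. -/
lemma exists_valuationSubring_dominating (R : Subring K) (P : Ideal R) [P.IsPrime] (hP : P ≠ ⊥) :
    ∃ O : ValuationSubring K, R ≤ O.toSubring ∧ O ≠ ⊤ ∧ ∀ x : R, (x : K) ∈ O.nonunits ↔ x ∈ P := by
  obtain ⟨O, hO1, hO2⟩ := (LocalSubring.ofPrime R P).exists_le_valuationSubring
  have hle : R ≤ O.toSubring := fun z hz => hO1 (LocalSubring.le_ofPrime R P hz)
  have hiff : ∀ x : R, (x : K) ∈ O.nonunits ↔ x ∈ P := by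
    intro x
    have hx1 := LocalSubring.le_ofPrime R P x.2
    letI := (Subring.inclusion (LocalSubring.le_ofPrime R P)).toAlgebra
    haveI : IsLocalization.AtPrime (LocalSubring.ofPrime R P).toSubring P := inferInstance
    rw [← IsLocalization.AtPrime.to_map_mem_maximal_iff (LocalSubring.ofPrime R P).toSubring P x,
      IsLocalRing.mem_maximalIdeal, mem_nonunits_iff, show (x : K) ∈ O.nonunits ↔
        ¬ IsUnit (⟨(x : K), hO1 hx1⟩ : O) from
          (O.coe_mem_nonunits_iff (a := ⟨(x : K), hO1 hx1⟩)).trans (IsLocalRing.mem_maximalIdeal _)]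
    constructor
    · exact fun h hu => h (hu.map (Subring.inclusion hO1))
    · intro h hu
      exact h (hO2.map_nonunit _ hu)
  refine ⟨O, hle, fun h => ?_, hiff⟩
  obtain ⟨x, hx, hx0⟩ := Submodule.exists_mem_ne_zero_of_ne_bot hP
  have h1 := (hiff x).mpr hx
  rw [O.mem_nonunits_iff_or] at h1
  refine h1.elim (fun h2 => hx0 (Subtype.ext h2)) (fun h2 => h2 ?_)
  rw [h]
  exact Subsemiring.mem_top _

/-- Elements that are non-units in every proper valuation ring over `B` have powers which
swallow any denominator. -/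
lemma eventually_pow_mul_mem {y : K}
    (hy : ∀ O : ValuationSubring K, B ≤ O.toSubring → O ≠ ⊤ → y ∈ O.nonunits) (w : K) :
    ∃ N, ∀ n, N ≤ n → y ^ n * w ∈ B := by
  classical
  have hint : IsIntegral B y := by
    have hmem : y ∈ ⨅ V : {V : ValuationSubring K // (B : Set K) ⊆ V.toSubring}, V.1.toSubring := by
      rw [Subring.mem_iInf]
      intro V
      rcases eq_or_ne V.1 ⊤ with h | h
      · rw [h]; exact Subsemiring.mem_top _
      · exact V.1.nonunits_subset (hy V.1 V.2 h)
    rw [iInf_valuationSubring_superset] at hmem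
    have : ∀ S : Subring K, S = B → y ∈ (integralClosure S K).toSubring → IsIntegral B y := by
      rintro S rfl h; exact h
    exact this _ (Subring.closure_eq B) hmem
  set C : Subalgebra B K := Algebra.adjoin B {y}
  have hCfg : (⊤ : Submodule B C).FG := by
    haveI : Module.Finite B C := Module.Finite.iff_fg.mpr hint.fg_adjoin_singleton
    exact Module.Finite.fg_top
  obtain ⟨d, hd, hdC⟩ := exists_smul_eq_algebraMap_of_fg C hCfg
  obtain ⟨r, s, hw⟩ := IsLocalization.exists_mk'_eq (nonZeroDivisors B) w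
  have hne : d * s ≠ 0 := mul_ne_zero hd (nonZeroDivisors.coe_ne_zero s)
  haveI := isArtinianRing_quotient C hne
  have hyC : y ∈ C := Algebra.subset_adjoin rfl
  have hnil : IsNilpotent (Ideal.Quotient.mk (Ideal.span {algebraMap B C (d * s)}) ⟨y, hyC⟩) := by
    refine (nilpotent_iff_mem_prime (R := C ⧸ Ideal.span {algebraMap B C (d * s)})).mpr ?_
    intro J hJ
    have hJm : algebraMap B C (d * s) ∈ J.comap (Ideal.Quotient.mk _) := by
      rw [Ideal.mem_comap, Ideal.Quotient.eq_zero_iff_mem.mpr (Ideal.mem_span_singleton_self _)]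
      exact J.zero_mem
    have hne' : J.comap (Ideal.Quotient.mk (Ideal.span {algebraMap B C (d * s)})) ≠ ⊥ := fun h => by
      rw [h, Ideal.mem_bot] at hJm
      exact hne (Subtype.ext (congrArg Subtype.val hJm :))
    obtain ⟨O, hCO, hO, hiff⟩ := exists_valuationSubring_dominating C.toSubring
      (J.comap (Ideal.Quotient.mk (Ideal.span {algebraMap B C (d * s)}))) hne'
    exact (hiff ⟨y, hyC⟩).mp (hy O (fun b hb => hCO (C.algebraMap_mem ⟨b, hb⟩)) hO)
  obtain ⟨N, hN⟩ := hnil
  refine ⟨N, fun n hn => ?_⟩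
  have h0 := pow_eq_zero_of_le hn hN
  rw [← map_pow, Ideal.Quotient.eq_zero_iff_mem, Ideal.mem_span_singleton'] at h0
  obtain ⟨c, hc⟩ := h0
  obtain ⟨e, he⟩ := hdC c trivial
  have h1 : y ^ n = (c : K) * ((d : K) * ((s : B) : K)) := (congrArg Subtype.val hc).symm
  have h2 : (d : K) * (c : K) = (e : K) := congrArg Subtype.val he
  have h3 : y ^ n * w = (e : K) * (r : K) := by
    rw [h1, ← h2, ← hw, IsFractionRing.mk'_eq_div]
    change (c : K) * ((d : K) * ((s : B) : K)) * ((r : K) / ((s : B) : K)) = (d : K) * c * r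
    have hs : ((s : B) : K) ≠ 0 := fun h0 => nonZeroDivisors.coe_ne_zero s (Subtype.ext h0)
    field_simp
  rw [h3]
  exact (e * r).2

/-- In a DVR of `K`, powers of a non-unit times anything eventually are non-units. -/
lemma eventually_pow_mul_mem_nonunits {O : ValuationSubring K} (hBO : B ≤ O.toSubring) (hO : O ≠ ⊤) {y : K}
    (hy : y ∈ O.nonunits) (w : K) : ∃ N, ∀ n, N ≤ n → y ^ n * w ∈ O.nonunits := by
  haveI := isDiscreteValuationRing_of_le B hBO hO
  haveI : IsFractionRing O.toSubring K := inferInstanceAs (IsFractionRing O K)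
  haveI : IsNoetherianRing O.toSubring := inferInstanceAs (IsNoetherianRing O)
  haveI : Ring.KrullDimLE 1 O.toSubring := inferInstanceAs (Ring.KrullDimLE 1 O)
  obtain ⟨N, hN⟩ := eventually_pow_mul_mem O.toSubring (y := y) (fun O' hle hO' => by
    obtain ⟨hy', hym⟩ := O.mem_nonunits_iff_exists_mem_maximalIdeal.mp hy
    have hc : (Ideal.comap (Subring.inclusion hle) (IsLocalRing.maximalIdeal O')) =
        IsLocalRing.maximalIdeal O :=
      IsLocalRing.eq_maximalIdeal (R := O) (isMaximal_centre O.toSubring hle hO')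
    rw [← hc] at hym
    exact O'.coe_mem_nonunits_iff.mpr hym) w
  refine ⟨N + 1, fun n hn => ?_⟩
  obtain ⟨m, rfl⟩ : ∃ m, n = m + 1 := ⟨n - 1, by omega⟩
  rw [pow_succ, mul_right_comm, mul_comm]
  rw [mul_comm y]
  exact mul_mem_nonunits O (hN m (by omega)) hy

/-- A semilocal one-dimensional `B` has only finitely many proper valuation rings over it. -/
lemma finite_valuationSubring_ge (hsl : Finite (MaximalSpectrum B)) :
    {O : ValuationSubring K | B ≤ O.toSubring ∧ O ≠ ⊤}.Finite := by
  classical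
  haveI := Fintype.ofFinite (MaximalSpectrum B)
  set x : B := ∏ m : MaximalSpectrum B,
    if h : m.asIdeal = ⊥ then 1 else (Submodule.exists_mem_ne_zero_of_ne_bot h).choose with hx
  have hx0 : x ≠ 0 := Finset.prod_ne_zero_iff.mpr fun m _ => by
    split
    · exact one_ne_zero
    · next h => exact (Submodule.exists_mem_ne_zero_of_ne_bot h).choose_spec.2
  have hxm : ∀ m : Ideal B, m.IsMaximal → m ≠ ⊥ → x ∈ m := fun m hm h0 => by
    refine Ideal.mem_of_dvd _ (Finset.dvd_prod_of_mem _ (Finset.mem_univ ⟨m, hm⟩)) ?_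
    rw [dif_neg h0]
    exact (Submodule.exists_mem_ne_zero_of_ne_bot h0).choose_spec.1
  set R' := integralClosure B K with hR'
  haveI : IsNoetherianRing R' := isNoetherianRing_subalgebra R'
  haveI : Ring.DimensionLEOne R' := dimensionLEOne_subalgebra R'
  haveI : IsFractionRing R' K := integralClosure.isFractionRing_of_finite_extension K K
  haveI : IsIntegrallyClosed R' := (isIntegrallyClosed_iff_isIntegrallyClosedIn K).mpr inferInstance
  haveI : IsDedekindRing R' := { }
  haveI : IsDedekindDomain R' := { }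
  have hR'O : ∀ O : ValuationSubring K, B ≤ O.toSubring → R'.toSubring ≤ O.toSubring := fun O hO => by
    haveI : IsIntegrallyClosedIn O.toSubring K := inferInstanceAs (IsIntegrallyClosedIn O K)
    exact Subring.integralClosure_subring_le_iff.mpr hO
  let centre : {O : ValuationSubring K | B ≤ O.toSubring ∧ O ≠ ⊤} → Ideal R' := fun O =>
    Ideal.comap (Subring.inclusion (hR'O O.1 O.2.1)) (IsLocalRing.maximalIdeal O.1)
  have hmem : ∀ O, centre O ∈ {P : Ideal R' | P.IsMaximal ∧ algebraMap B R' x ∈ P} := by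
    rintro ⟨O, hBO, hO⟩
    have hc := isMaximal_centre B hBO hO
    have hxc : algebraMap B R' x ∈ centre ⟨O, hBO, hO⟩ := by
      have h := hxm _ hc (fun h => by
        obtain ⟨b, hb, hb'⟩ := exists_mem_nonunits B hBO hO
        have hmem : b ∈ Ideal.comap (Subring.inclusion hBO) (IsLocalRing.maximalIdeal O) :=
          (O.coe_mem_nonunits_iff (a := ⟨(b : K), hBO b.2⟩)).mp hb'
        rw [h] at hmem
        exact hb (Ideal.mem_bot.mp hmem))
      exact h
    haveI : (centre ⟨O, hBO, hO⟩).IsPrime := Ideal.comap_isPrime _ _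
    refine ⟨Ring.DimensionLEOne.maximalOfPrime (fun h => ?_) inferInstance, hxc⟩
    rw [h, Ideal.mem_bot] at hxc
    exact hx0 (Subtype.ext (congrArg Subtype.val hxc :))
  have hinj : Function.Injective centre := by
    have key : ∀ O O' : {O : ValuationSubring K | B ≤ O.toSubring ∧ O ≠ ⊤}, centre O = centre O' →
        O.1 ≤ O'.1 := by
      intro O O' h z hz
      haveI hP : (centre O').IsPrime := Ideal.comap_isPrime _ _
      have hP0 : centre O' ≠ ⊥ := fun h0 => hx0 (by
        have := (hmem O').2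
        rw [h0, Ideal.mem_bot] at this
        exact Subtype.ext (congrArg Subtype.val this :))
      haveI hdvr : IsDiscreteValuationRing (Localization.AtPrime (centre O')) :=
        IsLocalization.AtPrime.isDiscreteValuationRing_of_dedekind_domain R' hP0 _
      haveI : ValuationRing (Localization.AtPrime (centre O')) :=
        ((IsDiscreteValuationRing.TFAE _ (IsDiscreteValuationRing.not_isField _)).out 0 1).mp hdvr
      obtain ⟨a, b, rfl⟩ := IsLocalization.exists_mk'_eq (nonZeroDivisors R') z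
      have hb : ((b : R') : K) ≠ 0 := fun h0 => nonZeroDivisors.coe_ne_zero b (Subtype.ext h0)
      rw [IsFractionRing.mk'_eq_div] at hz ⊢
      change ((a : K) / ((b : R') : K)) ∈ O.1 at hz
      change ((a : K) / ((b : R') : K)) ∈ O'.1
      have hunit : ∀ s : R', s ∉ centre O' → (s : K) ≠ 0 ∧ (s : K)⁻¹ ∈ O'.1 := fun s hs => by
        have hu : ¬ ((s : K) ∈ O'.1.nonunits) := fun h' =>
          hs ((O'.1.coe_mem_nonunits_iff (a := ⟨s, hR'O O'.1 O'.2.1 s.2⟩)).mp h')
        rw [O'.1.mem_nonunits_iff_or, not_or, not_not] at hu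
        exact hu
      rcases (ValuationRing.iff_dvd_total.mp ‹ValuationRing (Localization.AtPrime (centre O'))›).total (algebraMap R' (Localization.AtPrime (centre O')) a)
        (algebraMap R' (Localization.AtPrime (centre O')) b) with ⟨q, hq⟩ | ⟨q, hq⟩
      · obtain ⟨c, s, rfl⟩ := IsLocalization.exists_mk'_eq (centre O').primeCompl q
        rcases eq_or_ne (a : K) 0 with ha | ha
        · rw [ha, zero_div]; exact O'.1.zero_mem
        · by_contra hz'
          have h1 : ((b : R') : K) * ((s : R') : K) = (a : K) * (c : K) := by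
            have h2 : algebraMap R' (Localization.AtPrime (centre O')) (b * s) =
                algebraMap R' _ (a * c) := by
              rw [map_mul, map_mul, hq, mul_assoc, IsLocalization.mk'_spec]
            exact congrArg Subtype.val (IsLocalization.injective (Localization.AtPrime (centre O')) (M := (centre O').primeCompl)
              (Ideal.primeCompl_le_nonZeroDivisors _) h2)
          obtain ⟨hs0, hsinv⟩ := hunit s s.2
          have hinv : ((b : R') : K) / (a : K) ∈ O'.1.nonunits := by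
            rw [← inv_div]; exact inv_mem_nonunits_of_notMem _ hz'
          have hc : (c : K) ∈ O'.1.nonunits := by
            have : (c : K) = ((s : R') : K) * (((b : R') : K) / a) := by field_simp; linear_combination -h1
            rw [this]
            exact mul_mem_nonunits _ (hR'O O'.1 O'.2.1 (s : R').2) hinv
          have hcO : c ∈ centre O := h ▸ (O'.1.coe_mem_nonunits_iff (a := ⟨c, hR'O O'.1 O'.2.1 c.2⟩)).mp hc
          have hsO : (s : R') ∉ centre O := by rw [h]; exact s.2
          have hc2 : (c : K) ∈ O.1.nonunits :=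
            (O.1.coe_mem_nonunits_iff (a := ⟨c, hR'O O.1 O.2.1 c.2⟩)).mpr hcO
          refine hsO ((O.1.coe_mem_nonunits_iff (a := ⟨(s : R'), hR'O O.1 O.2.1 (s : R').2⟩)).mp ?_)
          have : ((s : R') : K) = (a : K) / ((b : R') : K) * c := by field_simp; linear_combination h1
          change ((s : R') : K) ∈ O.1.nonunits
          rw [this]
          exact mul_mem_nonunits _ hz hc2
      · obtain ⟨c, s, rfl⟩ := IsLocalization.exists_mk'_eq (centre O').primeCompl q
        have h2 : algebraMap R' (Localization.AtPrime (centre O')) (a * s) =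
            algebraMap R' _ (b * c) := by
          rw [map_mul, map_mul, hq, mul_assoc, IsLocalization.mk'_spec]
        have h1 : (a : K) * ((s : R') : K) = ((b : R') : K) * (c : K) :=
          congrArg Subtype.val (IsLocalization.injective (Localization.AtPrime (centre O')) (M := (centre O').primeCompl)
            (Ideal.primeCompl_le_nonZeroDivisors _) h2)
        obtain ⟨hs0, hsinv⟩ := hunit s s.2
        have : (a : K) / ((b : R') : K) = (c : K) * ((s : R') : K)⁻¹ := by
          field_simp; linear_combination h1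
        rw [this]
        exact O'.1.mul_mem _ _ (hR'O O'.1 O'.2.1 c.2) hsinv
    intro O O' h
    exact Subtype.ext (le_antisymm (key O O' h) (key O' O h.symm))
  haveI := (finite_maximal_containing R' hx0).to_subtype
  exact Set.finite_coe_iff.mp (Finite.of_injective
    (fun O => (⟨centre O, hmem O⟩ : {P : Ideal R' | P.IsMaximal ∧ algebraMap B R' x ∈ P}))
    (fun _ _ h => hinj (congrArg Subtype.val h)))

omit [IsFractionRing B K] [IsNoetherianRing B] [Ring.KrullDimLE 1 B] in
lemma pow_notMem (O : ValuationSubring K) {x : K} (hx : x ∉ O) {n : ℕ} (hn : n ≠ 0) : x ^ n ∉ O := by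
  rw [← O.valuation_le_one_iff, not_le] at hx ⊢
  rw [map_pow]
  exact one_lt_pow₀ hx hn

omit [IsFractionRing B K] [IsNoetherianRing B] [Ring.KrullDimLE 1 B] in
lemma add_notMem_of_nonunit (O : ValuationSubring K) {x a : K} (hx : x ∉ O)
    (h : x⁻¹ * a ∈ O.nonunits) : x + a ∉ O := by
  intro hs
  have h0 : x ≠ 0 := fun h => hx (h ▸ O.zero_mem)
  have h1 : (1 + x⁻¹ * a) ∈ O.nonunits := by
    have : 1 + x⁻¹ * a = (x + a) * x⁻¹ := by field_simp
    rw [this]
    exact mul_mem_nonunits O hs (inv_mem_nonunits_of_notMem O hx)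
  rw [O.mem_nonunits_iff] at h h1
  have := (O.valuation.map_add (1 + x⁻¹ * a) (-(x⁻¹ * a))).trans_lt (max_lt h1 (by rwa [Valuation.map_neg]))
  simp at this

omit [IsFractionRing B K] [IsNoetherianRing B] [Ring.KrullDimLE 1 B] in
/-- Finitely many valuation rings none of which contains `A` are avoided by one element of `A`. -/
lemma exists_notMem (A : Subring K) (S : Finset (ValuationSubring K))
    (hev : ∀ O ∈ S, ∀ y ∈ O.nonunits, ∀ w : K, ∃ N, ∀ n, N ≤ n → y ^ n * w ∈ O.nonunits)
    (hA : ∀ O ∈ S, ¬ A ≤ O.toSubring) : ∃ x ∈ A, x ≠ 0 ∧ ∀ O ∈ S, x ∉ O := by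
  classical
  induction S using Finset.induction with
  | empty => exact ⟨1, A.one_mem, one_ne_zero, by simp⟩
  | insert O S _ ih =>
    obtain ⟨x, hx, hx0, hxS⟩ := ih (fun O' h => hev O' (Finset.mem_insert_of_mem h))
      (fun O' h => hA O' (Finset.mem_insert_of_mem h))
    by_cases hxO : x ∈ O
    swap
    · exact ⟨x, hx, hx0, fun O' h => (Finset.mem_insert.mp h).elim (fun e => e ▸ hxO) (hxS O')⟩
    obtain ⟨a, haA, haO⟩ := SetLike.not_le_iff_exists.mp (hA O (Finset.mem_insert_self _ _))
    choose N hN using fun (O' : S) => hev O'.1 (Finset.mem_insert_of_mem O'.2) x⁻¹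
      (inv_mem_nonunits_of_notMem _ (hxS O'.1 O'.2)) a
    set p := (Finset.univ.sup N) + 1
    have hnot : ∀ O' ∈ insert O S, x ^ p + a ∉ O' := by
      intro O' h
      rcases Finset.mem_insert.mp h with rfl | h
      · intro hc
        have hxp : x ^ p ∈ O'.toSubring := pow_mem (show x ∈ O'.toSubring from hxO) p
        have h2 := O'.toSubring.sub_mem hc hxp
        rw [add_sub_cancel_left] at h2
        exact haO h2
      · refine add_notMem_of_nonunit O' (pow_notMem O' (hxS O' h) (Nat.succ_ne_zero _)) ?_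
        rw [← inv_pow]
        exact hN ⟨O', h⟩ p ((Finset.le_sup (Finset.mem_univ (⟨O', h⟩ : S))).trans (Nat.le_succ _))
    refine ⟨x ^ p + a, A.add_mem (pow_mem hx p) haA, ?_, hnot⟩
    intro h
    exact hnot O (Finset.mem_insert_self _ _) (h ▸ O.zero_mem)

omit [IsFractionRing B K] [IsNoetherianRing B] [Ring.KrullDimLE 1 B] in
/-- In a semilocal `A` one can avoid finitely many valuation rings by a unit. -/
lemma exists_unit_notMem (A : Subring K) (hsl : Finite (MaximalSpectrum A)) (S : Finset (ValuationSubring K))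
    (hev : ∀ O ∈ S, ∀ y ∈ O.nonunits, ∀ w : K, ∃ N, ∀ n, N ≤ n → y ^ n * w ∈ O.nonunits)
    (hA : ∀ O ∈ S, ¬ A ≤ O.toSubring) :
    ∃ u ∈ A, u ≠ 0 ∧ u⁻¹ ∈ A ∧ ∀ O ∈ S, u⁻¹ ∈ O.nonunits := by
  classical
  obtain ⟨x, hx, hx0, hxS⟩ := exists_notMem A S hev hA
  haveI := Fintype.ofFinite (MaximalSpectrum A)
  set P := Finset.univ.filter (fun m : MaximalSpectrum A => (⟨x, hx⟩ : A) ∈ m.asIdeal)
  set Q := Finset.univ.filter (fun m : MaximalSpectrum A => (⟨x, hx⟩ : A) ∉ m.asIdeal)
  obtain ⟨c, hcQ, hcP⟩ : ∃ c : A, c ∈ Q.inf (fun m => m.asIdeal) ∧ ∀ m ∈ P, c ∉ m.asIdeal := by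
    by_contra! hcon
    have hsub : ((Q.inf (fun m => m.asIdeal) : Ideal A) : Set A) ⊆ ⋃ m ∈ (P : Set (MaximalSpectrum A)), (m.asIdeal : Set A) := by
      intro c hc
      obtain ⟨m, hm, hcm⟩ := hcon c hc
      exact Set.mem_biUnion hm hcm
    rcases P.eq_empty_or_nonempty with hP | ⟨m₀, hm₀⟩
    · have := hsub (zero_mem _)
      simp [hP] at this
    rw [Ideal.subset_union_prime m₀ m₀ (fun m _ _ _ => m.isMaximal.isPrime)] at hsub
    obtain ⟨m, hm, hle⟩ := hsub
    obtain ⟨m', hm', hle'⟩ := (m.isMaximal.isPrime.inf_le').mp hle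
    have : m'.asIdeal = m.asIdeal := m'.isMaximal.eq_of_le m.isMaximal.ne_top hle'
    exact (Finset.mem_filter.mp hm').2 (this ▸ (Finset.mem_filter.mp hm).2)
  choose N hN using fun (O' : S) => hev O'.1 O'.2 x⁻¹ (inv_mem_nonunits_of_notMem _ (hxS O'.1 O'.2)) (c : K)
  set p := (Finset.univ.sup N) + 1
  have hmemA : x ^ p + c ∈ A := A.add_mem (pow_mem hx p) c.2
  have hunit : IsUnit (⟨x ^ p + c, hmemA⟩ : A) := by
    refine Classical.byContradiction fun hcon => ?_
    obtain ⟨m, hm, hmem⟩ := exists_max_ideal_of_mem_nonunits hcon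
    have he : (⟨x ^ p + c, hmemA⟩ : A) = (⟨x, hx⟩ : A) ^ p + c := Subtype.ext rfl
    rw [he] at hmem
    by_cases hxm : (⟨x, hx⟩ : A) ∈ m
    · exact hcP ⟨m, hm⟩ (Finset.mem_filter.mpr ⟨Finset.mem_univ _, hxm⟩)
        ((m.add_mem_iff_right (m.pow_mem_of_mem hxm p (Nat.succ_pos _))).mp hmem)
    · have hcm : c ∈ m := (Finset.inf_le (f := fun m : MaximalSpectrum A => m.asIdeal)
        (Finset.mem_filter.mpr ⟨Finset.mem_univ (⟨m, hm⟩ : MaximalSpectrum A), hxm⟩)) hcQ
      exact hxm (hm.isPrime.mem_of_pow_mem p ((m.add_mem_iff_left hcm).mp hmem))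
  have hne : x ^ p + (c : K) ≠ 0 := fun h => by
    have : (⟨x ^ p + c, hmemA⟩ : A) = 0 := Subtype.ext h
    rw [this] at hunit
    exact not_isUnit_zero hunit
  refine ⟨x ^ p + c, hmemA, hne, inv_mem_of_isUnit hmemA hunit, fun O hO => inv_mem_nonunits_of_notMem O ?_⟩
  refine add_notMem_of_nonunit O (pow_notMem O (hxS O hO) (Nat.succ_ne_zero _)) ?_
  rw [← inv_pow]
  exact hN ⟨O, hO⟩ p ((Finset.le_sup (Finset.mem_univ (⟨O, hO⟩ : S))).trans (Nat.le_succ _))

end Groth.Agent.OneDim
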